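import Mathlib

/-!
Irreducibility of the natural module of `SL₂(q)'` and of the even-weight module of an alternating group of odd degree.
-/

set_option autoImplicit false

namespace CfsgLib.BBlock

open Matrix MatrixGroups
open scoped commutatorElement

variable {F : Type*} [Field F]

/-- The upper transvection. -/
def xe (c : F) : SpecialLinearGroup (Fin 2) F := ⟨!![1, c; 0, 1], by simp [Matrix.det_fin_two_of]⟩

/-- The lower transvection. -/
def ye (c : F) : SpecialLinearGroup (Fin 2) F := ⟨!![1, 0; c, 1], by simp [Matrix.det_fin_two_of]⟩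

/-- A diagonal element. -/
def de (t : F) (ht : t ≠ 0) : SpecialLinearGroup (Fin 2) F :=
  ⟨!![t, 0; 0, t⁻¹], by simp [Matrix.det_fin_two_of, ht]⟩

theorem coe_xe (c : F) : ((xe c : SpecialLinearGroup (Fin 2) F) : Matrix (Fin 2) (Fin 2) F) = !![1, c; 0, 1] := rfl

theorem coe_ye (c : F) : ((ye c : SpecialLinearGroup (Fin 2) F) : Matrix (Fin 2) (Fin 2) F) = !![1, 0; c, 1] := rfl

theorem coe_de (t : F) (ht : t ≠ 0) :
    ((de t ht : SpecialLinearGroup (Fin 2) F) : Matrix (Fin 2) (Fin 2) F) = !![t, 0; 0, t⁻¹] := rfl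

theorem xe_mem_commutator {t : F} (ht : t ≠ 0) (ht2 : t * t ≠ 1) (c : F) :
    xe c ∈ commutator (SpecialLinearGroup (Fin 2) F) := by
  have h : t * t - 1 ≠ 0 := sub_ne_zero.2 ht2
  have e : xe c = ⁅de t ht, xe (c / (t * t - 1))⁆ := by
    rw [commutatorElement_def]
    refine Matrix.SpecialLinearGroup.ext _ _ fun i j => ?_
    show (!![1, c; 0, 1] : Matrix (Fin 2) (Fin 2) F) i j = ((!![t, 0; 0, t⁻¹] : Matrix (Fin 2) (Fin 2) F) *
      !![1, c / (t * t - 1); 0, 1] * Matrix.adjugate !![t, 0; 0, t⁻¹] * Matrix.adjugate !![1, c / (t * t - 1); 0, 1]) i j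
    rw [Matrix.adjugate_fin_two_of, Matrix.adjugate_fin_two_of]
    have he : c / (t * t - 1) * (t * t - 1) = c := div_mul_cancel₀ c h
    generalize c / (t * t - 1) = d at he
    fin_cases i <;> fin_cases j <;> simp [Matrix.mul_apply, Fin.sum_univ_two, ht] <;> linear_combination -he
  rw [e]; exact Subgroup.commutator_mem_commutator (Subgroup.mem_top _) (Subgroup.mem_top _)

theorem ye_mem_commutator {t : F} (ht : t ≠ 0) (ht2 : t * t ≠ 1) (c : F) :
    ye c ∈ commutator (SpecialLinearGroup (Fin 2) F) := by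
  have h : t * t - 1 ≠ 0 := sub_ne_zero.2 ht2
  have ht' : (t⁻¹) ≠ 0 := inv_ne_zero ht
  have e : ye c = ⁅de t⁻¹ ht', ye (c / (t * t - 1))⁆ := by
    rw [commutatorElement_def]
    refine Matrix.SpecialLinearGroup.ext _ _ fun i j => ?_
    show (!![1, 0; c, 1] : Matrix (Fin 2) (Fin 2) F) i j = ((!![t⁻¹, 0; 0, t⁻¹⁻¹] : Matrix (Fin 2) (Fin 2) F) *
      !![1, 0; c / (t * t - 1), 1] * Matrix.adjugate !![t⁻¹, 0; 0, t⁻¹⁻¹] * Matrix.adjugate !![1, 0; c / (t * t - 1), 1]) i j
    rw [Matrix.adjugate_fin_two_of, Matrix.adjugate_fin_two_of]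
    have he : c / (t * t - 1) * (t * t - 1) = c := div_mul_cancel₀ c h
    generalize c / (t * t - 1) = d at he
    fin_cases i <;> fin_cases j <;> simp [Matrix.mul_apply, Fin.sum_univ_two, ht] <;> linear_combination -he
  rw [e]; exact Subgroup.commutator_mem_commutator (Subgroup.mem_top _) (Subgroup.mem_top _)

/-- The natural module of the derived group of `SL₂` over a finite field has no proper invariant subgroup. -/
theorem sl2_invariant_eq_top [Fintype F] (U : AddSubgroup (Fin 2 → F))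
    (hU : ∀ r ∈ commutator (SpecialLinearGroup (Fin 2) F), ∀ v ∈ U, (r : Matrix (Fin 2) (Fin 2) F).mulVec v ∈ U)
    (hne : U ≠ ⊥) : U = ⊤ := by
  classical
  obtain ⟨v, hv, hv0⟩ := U.bot_or_exists_ne_zero.resolve_left hne
  have hpair : ∀ w : Fin 2 → F, w = ![w 0, w 1] := fun w => by ext i; fin_cases i <;> rfl
  by_cases hbig : ∃ t : F, t ≠ 0 ∧ t * t ≠ 1
  · obtain ⟨t, ht, ht2⟩ := hbig
    have hx : ∀ c, ∀ w ∈ U, ![c * w 1, 0] ∈ U := fun c w hw => by
      have := U.sub_mem (hU _ (xe_mem_commutator ht ht2 c) w hw) hw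
      convert this using 1
      ext i; fin_cases i <;> simp [coe_xe, Matrix.mulVec, dotProduct, Fin.sum_univ_two]
    have hy : ∀ c, ∀ w ∈ U, ![0, c * w 0] ∈ U := fun c w hw => by
      have := U.sub_mem (hU _ (ye_mem_commutator ht ht2 c) w hw) hw
      convert this using 1
      ext i; fin_cases i <;> simp [coe_ye, Matrix.mulVec, dotProduct, Fin.sum_univ_two]
    have h10 : ∀ c, ![c, 0] ∈ U := by
      intro c
      by_cases h1 : v 1 = 0
      · have h0 : v 0 ≠ 0 := fun h0 => hv0 (by rw [hpair v, h0, h1]; ext i; fin_cases i <;> rfl)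
        have := hx c _ (hy (v 0)⁻¹ v hv)
        simpa [h0] using this
      · have := hx (c * (v 1)⁻¹) v hv
        simpa [mul_assoc, h1] using this
    refine eq_top_iff.2 fun w _ => ?_
    rw [hpair w, show ![w 0, w 1] = ![w 0, 0] + ![0, w 1] by simp]
    exact U.add_mem (h10 _) (by simpa using hy (w 1) _ (h10 1))
  push Not at hbig
  -- the field has two or three elements
  have hsub : ∀ t : F, t = 0 ∨ t = 1 ∨ t = -1 := fun t => by
    by_cases ht : t = 0
    · exact Or.inl ht
    · exact Or.inr (mul_self_eq_one_iff.1 (hbig t ht))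
  have hscal : ∀ (c : F), ∀ w ∈ U, c • w ∈ U := fun c w hw => by
    rcases hsub c with rfl | rfl | rfl
    · simp
    · simpa using hw
    · simpa using U.neg_mem hw
  let h : SpecialLinearGroup (Fin 2) F := ⁅xe (1 : F), ye (1 : F)⁆
  have hh : ((⁅xe (1 : F), ye (1 : F)⁆ : SpecialLinearGroup (Fin 2) F) : Matrix (Fin 2) (Fin 2) F) = !![3, -1; 1, 0] := by
    rw [commutatorElement_def]
    show (!![1, 1; 0, 1] : Matrix (Fin 2) (Fin 2) F) * !![1, 0; 1, 1] * Matrix.adjugate !![1, 1; 0, 1] *
      Matrix.adjugate !![1, 0; 1, 1] = _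
    rw [Matrix.adjugate_fin_two_of, Matrix.adjugate_fin_two_of]
    ext i j; fin_cases i <;> fin_cases j <;> simp [Matrix.mul_apply, Fin.sum_univ_two] <;> norm_num
  have hw := hU h (Subgroup.commutator_mem_commutator (Subgroup.mem_top _) (Subgroup.mem_top _)) v hv
  rw [hh] at hw
  set D := v 0 * v 0 - 3 * v 0 * v 1 + v 1 * v 1 with hD
  have hD0 : D ≠ 0 := by
    intro hD0
    rw [hD] at hD0
    by_cases ha : v 0 = 0
    · refine hv0 ?_
      rw [ha] at hD0
      have hb : v 1 = 0 := mul_self_eq_zero.1 (by linear_combination hD0)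
      rw [hpair v, ha, hb]; ext i; fin_cases i <;> rfl
    by_cases hb : v 1 = 0
    · rw [hb] at hD0
      exact ha (mul_self_eq_zero.1 (by linear_combination hD0))
    have e1 := hbig _ ha
    have e2 := hbig _ hb
    have h5 : (5 : F) = 0 := by
      linear_combination -(2 + 3 * (v 0 * v 1)) * (hD0 - e1 - e2) - 9 * (v 1 * v 1) * e1 - 9 * e2
    apply one_ne_zero (α := F)
    by_cases h2 : (2 : F) = 0
    · linear_combination h5 - 2 * h2
    · have e4 := hbig 2 h2
      exact absurd (show (2 : F) = 0 by linear_combination h5 - e4) h2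
  refine eq_top_iff.2 fun u _ => ?_
  have hu : u = ((u 0 * v 0 - u 1 * (3 * v 0 - v 1)) / D) • v +
      ((u 1 * v 0 - u 0 * v 1) / D) • ((!![3, -1; 1, 0] : Matrix (Fin 2) (Fin 2) F).mulVec v) := by
    ext i; fin_cases i <;> simp [Matrix.mulVec, dotProduct, Fin.sum_univ_two] <;> field_simp <;> rw [hD] <;> ring
  rw [hu]
  exact U.add_mem (hscal _ _ hv) (hscal _ _ hw)

/-- The even-weight module of an alternating group of odd degree at least three has no proper invariant subgroup. -/
theorem evenWeight_invariant {n : ℕ} (hn : 3 ≤ n) (hodd : Odd n) (U : AddSubgroup (Fin n → ZMod 2))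
    (hU : ∀ σ ∈ alternatingGroup (Fin n), ∀ v ∈ U, (fun i => v (σ⁻¹ i)) ∈ U)
    {v : Fin n → ZMod 2} (hv : v ∈ U) (hv0 : v ≠ 0) (hsum : ∑ i, v i = 0)
    (w : Fin n → ZMod 2) (hw : ∑ i, w i = 0) : w ∈ U := by
  classical
  let e : Fin n → Fin n → Fin n → ZMod 2 := fun a b => Pi.single a 1 + Pi.single b 1
  have h01 : ∀ x : ZMod 2, x = 0 ∨ x = 1 := by decide
  obtain ⟨i, hi⟩ : ∃ i, v i = 1 := by
    by_contra hc
    exact hv0 (funext fun i => (h01 (v i)).resolve_right fun h => hc ⟨i, h⟩)
  obtain ⟨j, hj⟩ : ∃ j, v j = 0 := by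
    by_contra hc
    have h1 : ∀ i, v i = 1 := fun i => (h01 (v i)).resolve_left fun h => hc ⟨i, h⟩
    rw [Finset.sum_congr rfl fun i _ => h1 i, Finset.sum_const, Finset.card_univ, Fintype.card_fin,
      nsmul_one] at hsum
    rw [ZMod.natCast_eq_zero_iff_even] at hsum
    exact Nat.not_even_iff_odd.2 hodd hsum
  have hij : i ≠ j := fun h => by rw [h, hj] at hi; exact zero_ne_one hi
  obtain ⟨k, hki, hkj⟩ : ∃ k, k ≠ i ∧ k ≠ j := by
    by_contra hc
    push Not at hc
    have : (Finset.univ : Finset (Fin n)) ⊆ {i, j} := fun k _ => by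
      by_cases h : k = i
      · simp [h]
      · simp [hc k h]
    have := (Finset.card_le_card this).trans (Finset.card_insert_le _ _)
    simp at this; omega
  set σ := Equiv.swap i k * Equiv.swap i j with hσ
  have hσA : σ ∈ alternatingGroup (Fin n) := by
    rw [Equiv.Perm.mem_alternatingGroup, hσ, map_mul, Equiv.Perm.sign_swap hki.symm, Equiv.Perm.sign_swap hij]
    rfl
  have hσinv : σ⁻¹ = Equiv.swap i j * Equiv.swap i k := by rw [hσ, _root_.mul_inv_rev, Equiv.swap_inv, Equiv.swap_inv]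
  obtain ⟨x, y, hxy, hpairU⟩ : ∃ x y, x ≠ y ∧ e x y ∈ U := by
    have hdiff := U.add_mem hv (hU σ hσA v hv)
    have hval : ∀ l, l ≠ i → l ≠ j → l ≠ k → v (σ⁻¹ l) = v l := fun l h1 h2 h3 => by
      rw [hσinv, Equiv.Perm.mul_apply, Equiv.swap_apply_of_ne_of_ne h1 h3, Equiv.swap_apply_of_ne_of_ne h1 h2]
    have hvi : v (σ⁻¹ i) = v k := by
      rw [hσinv, Equiv.Perm.mul_apply, Equiv.swap_apply_left, Equiv.swap_apply_of_ne_of_ne hki hkj]
    have hvj : v (σ⁻¹ j) = 1 := by
      rw [hσinv, Equiv.Perm.mul_apply, Equiv.swap_apply_of_ne_of_ne hij.symm hkj.symm, Equiv.swap_apply_right, hi]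
    have hvk : v (σ⁻¹ k) = 0 := by
      rw [hσinv, Equiv.Perm.mul_apply, Equiv.swap_apply_right, Equiv.swap_apply_left, hj]
    rcases h01 (v k) with hk | hk
    · refine ⟨i, j, hij, ?_⟩
      convert hdiff using 1
      ext l
      by_cases h1 : l = i
      · subst h1; rw [Pi.add_apply]; beta_reduce; rw [hvi]; simp [e, Pi.single_apply, hi, hvi, hk, hij]
      by_cases h2 : l = j
      · subst h2; rw [Pi.add_apply]; beta_reduce; rw [hvj]; simp [e, Pi.single_apply, hj, hvj, hij.symm]
      by_cases h3 : l = k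
      · subst h3; rw [Pi.add_apply]; beta_reduce; rw [hvk]; simp [e, Pi.single_apply, hk, hvk, h1, h2]
      · rw [Pi.add_apply]; beta_reduce; rw [hval l h1 h2 h3]; simp [e, Pi.single_apply, h1, h2, CharTwo.add_self_eq_zero]
    · refine ⟨j, k, hkj.symm, ?_⟩
      convert hdiff using 1
      ext l
      by_cases h1 : l = i
      · subst h1; rw [Pi.add_apply]; beta_reduce; rw [hvi]; simp [e, Pi.single_apply, hi, hvi, hk, hij, hki.symm, CharTwo.add_self_eq_zero]
      by_cases h2 : l = j
      · subst h2; rw [Pi.add_apply]; beta_reduce; rw [hvj]; simp [e, Pi.single_apply, hj, hvj, hkj.symm]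
      by_cases h3 : l = k
      · subst h3; rw [Pi.add_apply]; beta_reduce; rw [hvk]; simp [e, Pi.single_apply, hk, hvk, hkj]
      · rw [Pi.add_apply]; beta_reduce; rw [hval l h1 h2 h3]; simp [e, Pi.single_apply, h2, h3, CharTwo.add_self_eq_zero]
  have hall : ∀ a b, a ≠ b → e a b ∈ U := by
    intro a b hab
    -- an even permutation moving `{x, y}` to `{a, b}`
    obtain ⟨τ, hτx, hτy⟩ : ∃ τ : Equiv.Perm (Fin n), τ x = a ∧ τ y = b := by
      refine ⟨Equiv.swap (Equiv.swap x a y) b * Equiv.swap x a, ?_, ?_⟩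
      · rw [Equiv.Perm.mul_apply, Equiv.swap_apply_left]
        refine Equiv.swap_apply_of_ne_of_ne ?_ hab
        intro h
        exact hxy ((Equiv.swap x a).injective (by rw [Equiv.swap_apply_left]; exact h))
      · rw [Equiv.Perm.mul_apply, Equiv.swap_apply_left]
    have himg : ∀ ρ : Equiv.Perm (Fin n), (fun l => e x y (ρ⁻¹ l)) = e (ρ x) (ρ y) := fun ρ => by
      ext l
      simp only [e, Pi.add_apply, Pi.single_apply]
      simp [Equiv.eq_symm_apply, Equiv.symm_apply_eq, eq_comm]
    rcases Int.units_eq_one_or (Equiv.Perm.sign τ) with hs | hs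
    · have := hU τ (Equiv.Perm.mem_alternatingGroup.2 hs) _ hpairU
      rwa [himg, hτx, hτy] at this
    · have hA : Equiv.swap a b * τ ∈ alternatingGroup (Fin n) := by
        rw [Equiv.Perm.mem_alternatingGroup, map_mul, Equiv.Perm.sign_swap hab, hs]; rfl
      have := hU _ hA _ hpairU
      rw [himg, Equiv.Perm.mul_apply, Equiv.Perm.mul_apply, hτx, hτy, Equiv.swap_apply_left,
        Equiv.swap_apply_right] at this
      rwa [show e a b = e b a from add_comm _ _]
  -- every even-weight vector is a sum of pairs through `i`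
  have hw' : w = ∑ l, (if w l = 1 ∧ l ≠ i then e l i else 0) := by
    have h1 : ∀ l, (if w l = 1 ∧ l ≠ i then e l i else 0) = w l • e l i := fun l => by
      by_cases hl : l = i
      · subst hl
        rw [if_neg (fun h => h.2 rfl), show e l l = 0 from funext fun _ => CharTwo.add_self_eq_zero _, smul_zero]
      · rcases h01 (w l) with h | h <;> simp [h, hl]
    rw [Finset.sum_congr rfl fun l _ => h1 l]
    ext m
    simp only [e, Finset.sum_apply, Pi.smul_apply, Pi.add_apply, smul_add, Finset.sum_add_distrib, Pi.single_apply,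
      smul_eq_mul, mul_ite, mul_one, mul_zero]
    by_cases hm : m = i
    · subst hm; simp [hw]
    · simp [hm]
  rw [hw']
  refine U.sum_mem fun l _ => ?_
  split_ifs with h
  · exact hall l i h.2
  · exact U.zero_mem

end CfsgLib.BBlock
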