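import Cfsg.Prelude.Def_BaumannBlocks
import Cfsg.Agent.BBlock.Natural
import Cfsg.Agent.ZJ.J
import Cfsg.Agent.PReduced.Basic
import Cfsg.Agent.PGroup.Basic
import Cfsg.Agent.CoprimeAction.Basic
import Cfsg.Agent.Transfer.Residual

/-!
Blocks relative to the Baumann subgroup: first properties.
-/

set_option autoImplicit false
set_option linter.style.haveILetI false
set_option linter.unusedSectionVars false
set_option maxHeartbeats 1000000

namespace CfsgLib.BBlock

open scoped commutatorElement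

variable {G : Type*} [Group G] [Finite G] {p : ℕ}

theorem mem_normalizer_of_conj {H : Subgroup G} {g : G} (h : ∀ x ∈ H, g * x * g⁻¹ ∈ H) :
    g ∈ Subgroup.normalizer (H : Set G) := by
  rw [Subgroup.mem_normalizer_iff_map_conj_eq]
  exact Subgroup.eq_of_le_of_card_ge (fun y ⟨x, hx, e⟩ => e ▸ h x hx)
    (Subgroup.card_map_of_injective (MulAut.conj g).injective).ge

theorem conj_mem {H : Subgroup G} {g x : G} (hg : g ∈ Subgroup.normalizer (H : Set G)) (hx : x ∈ H) :
    g * x * g⁻¹ ∈ H :=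
  (Subgroup.mem_normalizer_iff.1 hg x).1 hx

theorem normalizer_le_normalizer_omegaOne (H : Subgroup G) :
    Subgroup.normalizer (H : Set G) ≤ Subgroup.normalizer (Cfsg.omegaOne p H : Set G) := fun g hg =>
  mem_normalizer_of_conj fun x hx => by
    have hle : Cfsg.omegaOne p H ≤ (Cfsg.omegaOne p H).comap (MulAut.conj g).toMonoidHom :=
      (Subgroup.closure_le _).2 fun y hy =>
        Subgroup.subset_closure ⟨conj_mem hg hy.1, by
          show (MulAut.conj g y) ^ p = 1
          rw [← map_pow, hy.2, map_one]⟩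
    exact hle hx

theorem normalizer_le_normalizer_omegaOneCenter (H : Subgroup G) :
    Subgroup.normalizer (H : Set G) ≤ Subgroup.normalizer (Cfsg.omegaOneCenter p H : Set G) := fun g hg => by
  refine normalizer_le_normalizer_omegaOne _ (mem_normalizer_of_conj fun x hx => ⟨conj_mem hg hx.1, ?_⟩)
  exact conj_mem (PReduced.normalizer_le_normalizer_centralizer H hg) hx.2

theorem omegaOneCenter_le (H : Subgroup G) :
    Cfsg.omegaOneCenter p H ≤ H ⊓ Subgroup.centralizer (H : Set G) :=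
  (Subgroup.closure_le _).2 fun _ hx => hx.1

theorem pow_eq_one_of_mem_omegaOneCenter {H : Subgroup G} {x : G} (hx : x ∈ Cfsg.omegaOneCenter p H) :
    x ^ p = 1 := by
  have h := omegaOneCenter_le (p := p) H
  suffices hh : x ∈ Cfsg.omegaOneCenter p H ∧ x ^ p = 1 from hh.2
  refine Subgroup.closure_induction (p := fun u _ => u ∈ Cfsg.omegaOneCenter p H ∧ u ^ p = 1) ?_ ?_ ?_ ?_ hx
  · intro u hu; exact ⟨Subgroup.subset_closure hu, hu.2⟩
  · exact ⟨one_mem _, one_pow p⟩
  · rintro u v - - ⟨hu, hup⟩ ⟨hv, hvp⟩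
    refine ⟨mul_mem hu hv, ?_⟩
    rw [Commute.mul_pow (Subgroup.mem_centralizer_iff.1 (h hv).2 u (h hu).1), hup, hvp, one_mul]
  · rintro u - ⟨hu, hup⟩
    exact ⟨inv_mem hu, by rw [inv_pow, hup, inv_one]⟩

/-- `E = O^p(E)`: stepwise commutators with a normalized `p`-group collapse. -/
theorem commutator_le_of_step [hp : Fact p.Prime] {E U X Y : Subgroup G} (hE : Cfsg.pResidualOf p E = E)
    (hU : IsPGroup p U) (hEU : E ≤ Subgroup.normalizer (U : Set G)) (hEY : E ≤ Subgroup.normalizer (Y : Set G))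
    (h1 : ⁅U, E⁆ ≤ X) (h2 : ⁅X, E⁆ ≤ Y) : ⁅U, E⁆ ≤ Y := by
  let M : Subgroup G :=
    { carrier := {g | g ∈ E ∧ ∀ u ∈ U, ⁅u, g⁆ ∈ Y}
      one_mem' := ⟨one_mem _, fun u _ => by simp [commutatorElement_def]⟩
      mul_mem' := by
        rintro a b ⟨ha, ha'⟩ ⟨hb, hb'⟩
        refine ⟨mul_mem ha hb, fun u hu => ?_⟩
        have e : ⁅u, a * b⁆ = ⁅u, a⁆ * (a * ⁅u, b⁆ * a⁻¹) := by simp only [commutatorElement_def]; group
        rw [e]; exact Y.mul_mem (ha' u hu) (conj_mem (hEY ha) (hb' u hu))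
      inv_mem' := by
        rintro a ⟨ha, ha'⟩
        refine ⟨inv_mem ha, fun u hu => ?_⟩
        have e : ⁅u, a⁻¹⁆ = a⁻¹ * ⁅u, a⁆⁻¹ * a⁻¹⁻¹ := by simp only [commutatorElement_def]; group
        rw [e]; exact conj_mem (hEY (inv_mem ha)) (Y.inv_mem (ha' u hu)) }
  have hle : E ≤ M := by
    rw [← hE]
    show (Cfsg.pResidual p E).map E.subtype ≤ M
    rw [Cfsg.pResidual, MonoidHom.map_closure, Subgroup.closure_le]
    rintro _ ⟨⟨g, hg⟩, hgo, rfl⟩
    refine ⟨hg, fun u hu => ?_⟩
    have hgo' : (orderOf g).Coprime p := by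
      have := hgo
      simp only [Set.mem_setOf_eq] at this
      rwa [← Subgroup.orderOf_coe] at this
    have hcop : (Nat.card (Subgroup.zpowers g)).Coprime (Nat.card U) := by
      obtain ⟨k, hk⟩ := IsPGroup.iff_card.1 hU
      rw [Nat.card_zpowers, hk]
      exact hgo'.pow_right k
    have hm : ⁅u, g⁆ ∈ ⁅U, Subgroup.zpowers g⁆ :=
      Subgroup.commutator_mem_commutator hu (Subgroup.mem_zpowers g)
    rw [← CoprimeAction.commutator_commutator_eq (Subgroup.zpowers_le.2 (hEU hg)) hcop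
      (Or.inl inferInstance)] at hm
    refine ((Subgroup.commutator_mono ?_ (Subgroup.zpowers_le.2 hg)).trans h2) hm
    exact (Subgroup.commutator_mono le_rfl (Subgroup.zpowers_le.2 hg)).trans h1
  exact Subgroup.commutator_le.2 fun u hu g hg => (hle hg).2 u hu

/-- Members of the largest family are kept inside a Sylow subgroup containing `J(T)`. -/
theorem W_eq_of_conj {T T' : Subgroup G} (g : G) (hg : T.map (MulAut.conj g).toMonoidHom = T')
    (h : ZJ.J p true T ≤ T') : ZJ.W p true T' = ZJ.W p true T := by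
  have hinj : ∀ x ∈ T, (MulAut.conj g).toMonoidHom x = 1 → x = 1 := fun x _ hx =>
    (MulAut.conj g).injective (hx.trans (map_one (MulAut.conj g)).symm)
  have himg : (fun A : Subgroup G => A.map (MulAut.conj g).toMonoidHom) '' ZJ.maxGood p true T =
      ZJ.maxGood p true T' := by
    rw [← hg]
    ext B
    constructor
    · rintro ⟨A, hA, rfl⟩
      exact (ZJ.mem_maxGood_map_iff _ hinj hA.1).2 hA
    · intro hB
      obtain ⟨A, hA, rfl⟩ := ZJ.exists_map_eq _ hB.1
      exact ⟨A, (ZJ.mem_maxGood_map_iff _ hinj hA).1 hB, rfl⟩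
  have hsub : ZJ.maxGood p true T ⊆ ZJ.maxGood p true T' := by
    intro A hA
    refine ⟨(ZJ.maxGood_le_J hA).trans h, hA.2.1, fun C hC hCg => ?_⟩
    rw [← hg] at hC
    obtain ⟨B, hB, rfl⟩ := ZJ.exists_map_eq _ hC
    rw [Subgroup.card_map_of_injective (MulAut.conj g).injective]
    exact hA.2.2 B hB (ZJ.good_of_map _ (fun x hx => hinj x (hB hx)) hCg)
  have heq : ZJ.maxGood p true T = ZJ.maxGood p true T' := by
    refine Set.eq_of_subset_of_ncard_le hsub ?_ (Set.toFinite _)
    rw [← himg]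
    exact Set.ncard_image_le (Set.toFinite _)
  have hJ : ZJ.J p true T' = ZJ.J p true T := by rw [ZJ.J, ZJ.J, heq]
  rw [ZJ.W, ZJ.W, hJ]

theorem baumannSubgroupOf_eq (T : Subgroup G) :
    Cfsg.baumannSubgroupOf p T = T ⊓ Subgroup.centralizer (ZJ.W p true T : Set G) := by
  rw [Cfsg.baumannSubgroupOf, ZJ.omegaOne_centerThompsonOf_eq]

theorem J_le_baumann (T : Subgroup G) : ZJ.J p true T ≤ Cfsg.baumannSubgroupOf p T := by
  rw [baumannSubgroupOf_eq]
  exact le_inf (ZJ.J_le T) fun x hx => Subgroup.mem_centralizer_iff.2 fun w hw =>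
    (Subgroup.mem_centralizer_iff.1 ((ZJ.W_le_centerJ T) hw).2 x hx).symm

/-- A Sylow subgroup containing `B(T)` has `B(T)` as its Baumann subgroup. -/
theorem baumann_eq_of_le [hp : Fact p.Prime] (T T' : Sylow p G)
    (h : Cfsg.baumannSubgroupOf p (T : Subgroup G) ≤ (T' : Subgroup G)) :
    Cfsg.baumannSubgroupOf p (T' : Subgroup G) = Cfsg.baumannSubgroupOf p (T : Subgroup G) := by
  obtain ⟨g, hg⟩ := MulAction.exists_smul_eq G T T'
  have hmap : (T : Subgroup G).map (MulAut.conj g).toMonoidHom = (T' : Subgroup G) := by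
    rw [← hg, Sylow.coe_subgroup_smul]; rfl
  have hW := W_eq_of_conj g hmap ((J_le_baumann _).trans h)
  have hle : Cfsg.baumannSubgroupOf p (T : Subgroup G) ≤ Cfsg.baumannSubgroupOf p (T' : Subgroup G) := by
    rw [baumannSubgroupOf_eq (p := p) (T' : Subgroup G), hW]
    exact le_inf h ((baumannSubgroupOf_eq (p := p) (T : Subgroup G)).le.trans inf_le_right)
  refine (Subgroup.eq_of_le_of_card_ge hle ?_).symm
  have e : Cfsg.baumannSubgroupOf p (T' : Subgroup G) =
      (Cfsg.baumannSubgroupOf p (T : Subgroup G)).map (MulAut.conj g).toMonoidHom := by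
    rw [baumannSubgroupOf_eq, baumannSubgroupOf_eq, Subgroup.map_inf _ _ _ (MulAut.conj g).injective, hmap]
    congr 1
    have hinj : ∀ x ∈ (T : Subgroup G), (MulAut.conj g).toMonoidHom x = 1 → x = 1 := fun x _ hx =>
      (MulAut.conj g).injective (hx.trans (map_one (MulAut.conj g)).symm)
    rw [← hmap, ZJ.W_map _ hinj]
    ext x
    rw [Subgroup.mem_map_equiv, Subgroup.mem_centralizer_iff, Subgroup.mem_centralizer_iff]
    constructor
    · intro hx y hy
      apply (MulAut.conj g).injective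
      rw [map_mul, map_mul, (MulAut.conj g).apply_symm_apply]
      exact hx _ ⟨y, hy, rfl⟩
    · rintro hx _ ⟨y, hy, rfl⟩
      apply (MulAut.conj g).symm.injective
      rw [map_mul, map_mul]
      show (MulAut.conj g).symm (MulAut.conj g y) * _ = _ * (MulAut.conj g).symm (MulAut.conj g y)
      rw [(MulAut.conj g).symm_apply_apply]
      exact hx y hy
  rw [e, Subgroup.card_map_of_injective (MulAut.conj g).injective]

theorem le_normalizer_baumann (T : Subgroup G) :
    T ≤ Subgroup.normalizer (Cfsg.baumannSubgroupOf p T : Set G) := fun x hx => by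
  rw [baumannSubgroupOf_eq]
  have hxW := ZJ.normalizer_le_normalizer_W (p := p) (el := true) T (Subgroup.le_normalizer hx)
  exact mem_normalizer_of_conj fun y hy =>
    ⟨conj_mem (Subgroup.le_normalizer hx) hy.1, conj_mem (PReduced.normalizer_le_normalizer_centralizer _ hxW) hy.2⟩

/-- Every `p`-group normalized by `B(T)` normalizes `B(T)`. -/
theorem le_normalizer_of_baumann_le [hp : Fact p.Prime] (T : Sylow p G) {R : Subgroup G} (hR : IsPGroup p R)
    (hBR : Cfsg.baumannSubgroupOf p (T : Subgroup G) ≤ Subgroup.normalizer (R : Set G)) :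
    R ≤ Subgroup.normalizer (Cfsg.baumannSubgroupOf p (T : Subgroup G) : Set G) := by
  have hB : IsPGroup p (Cfsg.baumannSubgroupOf p (T : Subgroup G)) := T.2.to_le inf_le_left
  obtain ⟨T', hT'⟩ := (hB.to_sup_of_normal_right' hR hBR).exists_le_sylow
  rw [← baumann_eq_of_le T T' (le_sup_left.trans hT')]
  exact (le_sup_right.trans hT').trans (le_normalizer_baumann _)

section Block

variable [hp : Fact p.Prime] {T : Sylow p G} {E : Subgroup G}

local notation "BT" => Cfsg.baumannSubgroupOf p (T : Subgroup G)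

variable (hE : Cfsg.IsBaumannBlock p (T : Subgroup G) E)
include hE

theorem le_normalizer_of_block : BT ≤ Subgroup.normalizer (E : Set G) := fun b hb =>
  mem_normalizer_of_conj fun e he => by
    have h : ⁅e, b⁆ ∈ E := hE.2.1.le (Subgroup.commutator_mem_commutator he hb)
    rw [show b * e * b⁻¹ = ⁅e, b⁆⁻¹ * e by rw [commutatorElement_def]; group]
    exact mul_mem (inv_mem h) he

theorem ne_bot_of_block : E ≠ ⊥ := fun h => hE.2.2.2.1 (by rw [h, Subgroup.commutator_bot_left])

/-- **The lemma:** a `p`-subgroup normalized by `B(T)` and `E` normalizes `E`. -/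
theorem le_normalizer_block {R : Subgroup G} (hR : IsPGroup p R)
    (hBR : BT ≤ Subgroup.normalizer (R : Set G)) (hER : E ≤ Subgroup.normalizer (R : Set G)) :
    R ≤ Subgroup.normalizer (E : Set G) := by
  set B := BT with hBdef
  have hRB := le_normalizer_of_baumann_le T hR hBR
  set L := E ⊔ B with hL
  have hBE := le_normalizer_of_block hE
  have hLE : L ≤ Subgroup.normalizer (E : Set G) := sup_le Subgroup.le_normalizer hBE
  -- the conjugates of `B` under `E` are normalized by `R`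
  set S : Set G := {x | ∃ e ∈ E, ∃ b ∈ B, x = e * b * e⁻¹} with hS
  have hgen : L = Subgroup.closure S := by
    refine le_antisymm (sup_le ?_ fun b hb => Subgroup.subset_closure ⟨1, one_mem _, b, hb, by simp⟩)
      ((Subgroup.closure_le _).2 ?_)
    · conv_lhs => rw [← hE.2.1]
      refine Subgroup.commutator_le.2 fun e he b hb => ?_
      rw [commutatorElement_def]
      exact mul_mem (Subgroup.subset_closure ⟨e, he, b, hb, rfl⟩)
        (inv_mem (Subgroup.subset_closure ⟨1, one_mem _, b, hb, by simp⟩))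
    · rintro _ ⟨e, he, b, hb, rfl⟩
      exact mul_mem (mul_mem (Subgroup.mem_sup_left he) (Subgroup.mem_sup_right hb))
        (inv_mem (Subgroup.mem_sup_left he))
  have hRL : R ≤ Subgroup.normalizer (L : Set G) := by
    intro r hr
    refine mem_normalizer_of_conj fun x hx => ?_
    have hle : L ≤ L.comap (MulAut.conj r).toMonoidHom := by
      conv_lhs => rw [hgen]
      rw [Subgroup.closure_le]
      rintro _ ⟨e, he, b, hb, rfl⟩
      have hr' : e⁻¹ * r * e ∈ R := by simpa using conj_mem (hER (inv_mem he)) hr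
      show r * (e * b * e⁻¹) * r⁻¹ ∈ L
      rw [show r * (e * b * e⁻¹) * r⁻¹ = e * ((e⁻¹ * r * e) * b * (e⁻¹ * r * e)⁻¹) * e⁻¹ by group]
      exact mul_mem (mul_mem (Subgroup.mem_sup_left he) (Subgroup.mem_sup_right (conj_mem (hRB hr') hb)))
        (inv_mem (Subgroup.mem_sup_left he))
    exact hle hx
  have h1 : ⁅R, E⁆ ≤ R ⊓ L := Subgroup.commutator_le.2 fun r hr e he => by
    constructor
    · rw [commutatorElement_def, mul_assoc, mul_assoc]
      exact R.mul_mem hr (by simpa [mul_assoc] using conj_mem (hER he) (R.inv_mem hr))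
    · rw [commutatorElement_def]
      exact L.mul_mem (conj_mem (hRL hr) (Subgroup.mem_sup_left he)) (L.inv_mem (Subgroup.mem_sup_left he))
  have h2 : ⁅R ⊓ L, E⁆ ≤ E := Subgroup.commutator_le.2 fun u hu e he => by
    rw [commutatorElement_def]
    exact mul_mem (conj_mem (hLE hu.2) he) (inv_mem he)
  have h3 := commutator_le_of_step hE.1 hR hER Subgroup.le_normalizer h1 h2
  intro r hr
  refine mem_normalizer_of_conj fun e he => ?_
  rw [show r * e * r⁻¹ = ⁅r, e⁆ * e by rw [commutatorElement_def]; group]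
  exact mul_mem (h3 (Subgroup.commutator_mem_commutator hr he)) he

local notation "QE" => Cfsg.pCoreOf p E
local notation "WE" => Cfsg.omegaOneCenter p (Cfsg.pCoreOf p E)
local notation "ZE" => Cfsg.omegaOneCenter p (Cfsg.pCoreOf p E) ⊓ Subgroup.centralizer (E : Set G)

theorem block_normalizes_W : E ≤ Subgroup.normalizer (WE : Set G) :=
  (PReduced.le_normalizer_pCoreOf E).trans (normalizer_le_normalizer_omegaOneCenter _)

/-- The section `W / C_W(E)` has no proper invariant subgroup, and is nontrivial. -/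
theorem block_irreducible : ¬ WE ≤ ZE ∧ ∀ U : Subgroup G, ZE ≤ U → U ≤ WE →
    E ≤ Subgroup.normalizer (U : Set G) → U = ZE ∨ U = WE := by
  rcases hE.2.2.2.2 with ⟨F, _, _, n, -, -, ⟨-, -, ρ, ψ, hρ, hψ, hker, hact⟩, -⟩ |
      ⟨-, m, ⟨eE⟩, ⟨-, -, ρ, ψ, hρ, hsum, hψ, hker, hact⟩, -⟩
  · refine ⟨fun hle => ?_, fun U hZU hUW hEU => ?_⟩
    · obtain ⟨u, hu⟩ := hψ (Multiplicative.ofAdd (![1, 0] : Fin 2 → F))
      rw [(hker u).2 (hle u.2)] at hu
      have := congrFun (Multiplicative.ofAdd.injective (hu.symm.trans ofAdd_zero.symm)) 0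
      simp at this
    let Ua : AddSubgroup (Fin 2 → F) :=
      { carrier := {v | ∃ u : ↥WE, (u : G) ∈ U ∧ ψ u = Multiplicative.ofAdd v}
        zero_mem' := ⟨1, one_mem _, by rw [map_one, ofAdd_zero]⟩
        add_mem' := by
          rintro a b ⟨u, hu, hua⟩ ⟨v, hv, hvb⟩
          exact ⟨u * v, mul_mem hu hv, by rw [map_mul, hua, hvb, ofAdd_add]⟩
        neg_mem' := by
          rintro a ⟨u, hu, hua⟩
          exact ⟨u⁻¹, inv_mem hu, by rw [map_inv, hua, ofAdd_neg]⟩ }
    by_cases hb : Ua = ⊥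
    · refine Or.inl (le_antisymm (fun u hu => ?_) hZU)
      have hmem : Multiplicative.toAdd (ψ ⟨u, hUW hu⟩) ∈ Ua := ⟨⟨u, hUW hu⟩, hu, (ofAdd_toAdd _).symm⟩
      rw [hb, AddSubgroup.mem_bot, toAdd_eq_zero] at hmem
      exact (hker ⟨u, hUW hu⟩).1 hmem
    · have htop := sl2_invariant_eq_top Ua (fun r hr v ⟨u, hu, huv⟩ => by
        obtain ⟨e, rfl⟩ := hρ.ge hr
        obtain ⟨w, hw, hwv⟩ := hact e u
        refine ⟨w, hw ▸ conj_mem (hEU e.2) hu, ?_⟩
        rw [← toAdd_ofAdd v, ← huv, ← hwv, ofAdd_toAdd]) hb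
      refine Or.inr (le_antisymm hUW fun x hx => ?_)
      obtain ⟨u, hu, huv⟩ := htop.ge (AddSubgroup.mem_top (Multiplicative.toAdd (ψ ⟨x, hx⟩)))
      rw [ofAdd_toAdd] at huv
      have h1 : ψ (⟨x, hx⟩ * u⁻¹) = 1 := by rw [map_mul, map_inv, huv, mul_inv_cancel]
      have h2 : x * (u : G)⁻¹ ∈ U := hZU ((hker _).1 h1)
      simpa using mul_mem h2 hu
  · have hm : 1 ≤ m := by
      rcases Nat.eq_zero_or_pos m with rfl | hm
      · exfalso
        haveI : Subsingleton (Fin (2 * 0 + 1)) := ⟨fun a b => Fin.ext (by omega)⟩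
        haveI : Subsingleton ↥(alternatingGroup (Fin (2 * 0 + 1))) := inferInstance
        haveI := eE.toEquiv.subsingleton
        have hall : ∀ e : E, e ∈ Cfsg.pCore p ↥E := fun e =>
          (QuotientGroup.eq_one_iff e).1 (Subsingleton.elim _ _)
        have hpE : IsPGroup p E := (PReduced.isPGroup_pCoreOf E).to_le fun e he => ⟨⟨e, he⟩, hall _, rfl⟩
        refine ne_bot_of_block hE (le_bot_iff.1 ?_)
        rw [← hE.1]
        show (Cfsg.pResidual p ↥E).map E.subtype ≤ ⊥
        rw [Cfsg.pResidual, MonoidHom.map_closure, Subgroup.closure_le]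
        rintro _ ⟨g, hg, rfl⟩
        obtain ⟨k, hk⟩ := hpE g
        have hg1 : orderOf g = 1 := Nat.eq_one_of_dvd_coprimes (Nat.Coprime.pow_right k hg) dvd_rfl
          (orderOf_dvd_of_pow_eq_one hk)
        rw [orderOf_eq_one_iff.1 hg1, map_one]
        exact one_mem _
      · exact hm
    have hodd : Odd (2 * m + 1) := odd_two_mul_add_one m
    refine ⟨fun hle => ?_, fun U hZU hUW hEU => ?_⟩
    · let v : Fin (2 * m + 1) → ZMod 2 := Pi.single ⟨0, by omega⟩ 1 + Pi.single ⟨1, by omega⟩ 1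
      obtain ⟨u, hu⟩ := hψ v (by
        simp only [v, Pi.add_apply, Finset.sum_add_distrib, Finset.sum_pi_single', Finset.mem_univ, if_true]
        decide)
      rw [(hker u).2 (hle u.2), toAdd_one] at hu
      have := congrFun hu ⟨0, by omega⟩
      simp [v] at this
    let Ua : AddSubgroup (Fin (2 * m + 1) → ZMod 2) :=
      { carrier := {v | ∃ u : ↥WE, (u : G) ∈ U ∧ ψ u = Multiplicative.ofAdd v}
        zero_mem' := ⟨1, one_mem _, by rw [map_one, ofAdd_zero]⟩
        add_mem' := by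
          rintro a b ⟨u, hu, hua⟩ ⟨v, hv, hvb⟩
          exact ⟨u * v, mul_mem hu hv, by rw [map_mul, hua, hvb, ofAdd_add]⟩
        neg_mem' := by
          rintro a ⟨u, hu, hua⟩
          exact ⟨u⁻¹, inv_mem hu, by rw [map_inv, hua, ofAdd_neg]⟩ }
    by_cases hb : Ua = ⊥
    · refine Or.inl (le_antisymm (fun u hu => ?_) hZU)
      have hmem : Multiplicative.toAdd (ψ ⟨u, hUW hu⟩) ∈ Ua := ⟨⟨u, hUW hu⟩, hu, (ofAdd_toAdd _).symm⟩
      rw [hb, AddSubgroup.mem_bot, toAdd_eq_zero] at hmem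
      exact (hker ⟨u, hUW hu⟩).1 hmem
    · obtain ⟨v, hv, hv0⟩ := Ua.bot_or_exists_ne_zero.resolve_left hb
      have hvsum : ∑ i, v i = 0 := by
        obtain ⟨u, -, huv⟩ := hv
        have := hsum u
        rwa [huv, toAdd_ofAdd] at this
      refine Or.inr (le_antisymm hUW fun x hx => ?_)
      obtain ⟨u, hu, huv⟩ := evenWeight_invariant (by omega) hodd Ua (fun σ hσ w ⟨u, hu, huv⟩ => by
        obtain ⟨e, rfl⟩ := hρ.ge hσ
        obtain ⟨u', hu', hact'⟩ := hact e u
        refine ⟨u', hu' ▸ conj_mem (hEU e.2) hu, ?_⟩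
        rw [← ofAdd_toAdd (ψ u')]
        congr 1
        funext i
        rw [hact' i, huv, toAdd_ofAdd]) hv hv0 hvsum (Multiplicative.toAdd (ψ ⟨x, hx⟩)) (hsum _)
      rw [ofAdd_toAdd] at huv
      have h1 : ψ (⟨x, hx⟩ * u⁻¹) = 1 := by rw [map_mul, map_inv, huv, mul_inv_cancel]
      have h2 : x * (u : G)⁻¹ ∈ U := hZU ((hker _).1 h1)
      simpa using mul_mem h2 hu

theorem commutator_inf_core {R : Subgroup G} (hR : IsPGroup p R) (hER : E ≤ Subgroup.normalizer (R : Set G))
    (hRE : R ≤ Subgroup.normalizer (E : Set G)) : ⁅R, E⁆ ≤ QE := by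
  have h1 : ⁅R, E⁆ ≤ R ⊓ E := Subgroup.commutator_le.2 fun r hr e he => by
    constructor
    · rw [commutatorElement_def, mul_assoc, mul_assoc]
      exact R.mul_mem hr (by simpa [mul_assoc] using conj_mem (hER he) (R.inv_mem hr))
    · rw [commutatorElement_def]
      exact E.mul_mem (conj_mem (hRE hr) he) (E.inv_mem he)
  refine h1.trans fun x hx => ?_
  have hn : ((R ⊓ E).subgroupOf E).Normal := ⟨fun u hu e => ⟨conj_mem (hER e.2) hu.1, (e * u * e⁻¹ : E).2⟩⟩
  have hle := PReduced.le_pCore (p := p) hn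
    ((hR.to_le inf_le_left).of_equiv (Subgroup.subgroupOfEquivOfLe inf_le_right).symm)
  exact ⟨⟨x, hx.2⟩, hle hx, rfl⟩

/-- A `p`-group normalized by and normalizing `E` centralizes `[W, E]`. -/
theorem commutator_WE_le_centralizer {R : Subgroup G} (hR : IsPGroup p R)
    (hER : E ≤ Subgroup.normalizer (R : Set G)) (hRE : R ≤ Subgroup.normalizer (E : Set G)) :
    ⁅WE, E⁆ ≤ Subgroup.centralizer (R : Set G) := by
  have hEQ := commutator_inf_core hE hR hER hRE
  have hRQ : R ≤ Subgroup.normalizer (QE : Set G) := hRE.trans (PReduced.normalizer_le_normalizer_pCoreOf E)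
  have hRW : R ≤ Subgroup.normalizer (WE : Set G) := hRQ.trans (normalizer_le_normalizer_omegaOneCenter _)
  have hRZ : ∀ r ∈ R, ∀ z ∈ ZE, r * z * r⁻¹ ∈ ZE := fun r hr z hz =>
    ⟨conj_mem (hRW hr) hz.1, conj_mem (PReduced.normalizer_le_normalizer_centralizer E (hRE hr)) hz.2⟩
  have hQW : ∀ q ∈ QE, ∀ w ∈ WE, q * w * q⁻¹ = w := fun q hq w hw => by
    rw [Subgroup.mem_centralizer_iff.1 (omegaOneCenter_le _ hw).2 q hq, mul_inv_cancel_right]
  let U : Subgroup G :=
    { carrier := {w | w ∈ WE ∧ ∀ r ∈ R, ⁅r, w⁆ ∈ ZE}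
      one_mem' := ⟨one_mem _, fun r _ => by simp [commutatorElement_def]⟩
      mul_mem' := by
        rintro a b ⟨ha, ha'⟩ ⟨hb, hb'⟩
        refine ⟨mul_mem ha hb, fun r hr => ?_⟩
        have hc : a * ⁅r, b⁆ * a⁻¹ = ⁅r, b⁆ := by
          rw [(Subgroup.mem_centralizer_iff.1 (omegaOneCenter_le _ (hb' r hr).1).2 a
            (omegaOneCenter_le _ ha).1), mul_inv_cancel_right]
        have e : ⁅r, a * b⁆ = ⁅r, a⁆ * (a * ⁅r, b⁆ * a⁻¹) := by simp only [commutatorElement_def]; group
        rw [e, hc]; exact mul_mem (ha' r hr) (hb' r hr)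
      inv_mem' := by
        rintro a ⟨ha, ha'⟩
        refine ⟨inv_mem ha, fun r hr => ?_⟩
        have hc : a⁻¹ * ⁅r, a⁆⁻¹ * a⁻¹⁻¹ = ⁅r, a⁆⁻¹ := by
          rw [(Subgroup.mem_centralizer_iff.1 (omegaOneCenter_le _ (inv_mem (ha' r hr).1)).2 a⁻¹
            (omegaOneCenter_le _ (inv_mem ha)).1), mul_inv_cancel_right]
        have e : ⁅r, a⁻¹⁆ = a⁻¹ * ⁅r, a⁆⁻¹ * a⁻¹⁻¹ := by simp only [commutatorElement_def]; group
        rw [e, hc]; exact inv_mem (ha' r hr) }
  have hZU : ZE ≤ U := fun z hz => ⟨hz.1, fun r hr => by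
    rw [commutatorElement_def]; exact mul_mem (hRZ r hr z hz) (inv_mem hz)⟩
  have hEU : E ≤ Subgroup.normalizer (U : Set G) := fun e he => mem_normalizer_of_conj fun w hw => by
    refine ⟨conj_mem (block_normalizes_W hE he) hw.1, fun r hr => ?_⟩
    -- `r e = q e r` with `q ∈ Q`
    have hq : ⁅r, e⁆ ∈ QE := hEQ (Subgroup.commutator_mem_commutator hr he)
    have hw1 : e * (r * w * r⁻¹) * e⁻¹ ∈ WE := conj_mem (block_normalizes_W hE he) (conj_mem (hRW hr) hw.1)
    have e1 : ⁅r, e * w * e⁻¹⁆ = ⁅r, e⁆ * (e * (r * w * r⁻¹) * e⁻¹) * ⁅r, e⁆⁻¹ * (e * w * e⁻¹)⁻¹ := by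
      simp only [commutatorElement_def]; group
    rw [e1, hQW _ hq _ hw1, show e * (r * w * r⁻¹) * e⁻¹ * (e * w * e⁻¹)⁻¹ = e * ⁅r, w⁆ * e⁻¹ by
      simp only [commutatorElement_def]; group]
    have hz := hw.2 r hr
    rwa [Subgroup.mem_centralizer_iff.1 hz.2 e he, mul_inv_cancel_right]
  obtain ⟨hne, hirr⟩ := block_irreducible hE
  have hUW : U = WE := by
    refine (hirr U hZU (fun w hw => hw.1) hEU).resolve_left fun hU => ?_
    -- a fixed point of `R` modulo `Z`
    set M := R ⊔ WE with hM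
    have hW : IsPGroup p WE := (PReduced.isPGroup_pCoreOf E).to_le ((omegaOneCenter_le _).trans inf_le_left)
    have hMp : IsPGroup p M := hR.to_sup_of_normal_right' hW hRW
    have hWM : WE ≤ M := le_sup_right
    have hMW : M ≤ Subgroup.normalizer (WE : Set G) := sup_le hRW Subgroup.le_normalizer
    have hMZ : M ≤ Subgroup.normalizer ((ZE : Subgroup G) : Set G) :=
      sup_le (fun r hr => mem_normalizer_of_conj (hRZ r hr)) fun w hw => mem_normalizer_of_conj fun z hz => by
        rw [Subgroup.mem_centralizer_iff.1 (omegaOneCenter_le _ hz.1).2 w (omegaOneCenter_le _ hw).1,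
          mul_inv_cancel_right]
        exact hz
    haveI : ((WE).subgroupOf M).Normal := Subgroup.normal_subgroupOf_of_le_normalizer hMW
    haveI : ((ZE).subgroupOf M).Normal := Subgroup.normal_subgroupOf_of_le_normalizer hMZ
    have hlt : (ZE).subgroupOf M < (WE).subgroupOf M := by
      refine lt_of_le_not_ge (Subgroup.comap_mono inf_le_left) fun hle => hne fun w hw => ?_
      exact hle (show (⟨w, hWM hw⟩ : M) ∈ (WE).subgroupOf M from hw)
    obtain ⟨x, hxW, hxZ, hx⟩ := PGroup.exists_mem_central_mod hMp hlt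
    refine hxZ (hU.le ⟨hxW, fun r hr => ?_⟩)
    have h1 := inv_mem (hx ⟨r, Subgroup.mem_sup_left hr⟩)
    rw [commutatorElement_inv] at h1
    exact h1
  -- three subgroups
  rw [← Subgroup.commutator_eq_bot_iff_le_centralizer, Subgroup.commutator_comm _ R, ← le_bot_iff]
  refine le_of_eq ((Subgroup.commutator_comm _ _).trans ?_)
  refine Subgroup.commutator_commutator_eq_bot_of_rotate ?_ ?_
  · rw [← le_bot_iff]
    refine (Subgroup.commutator_mono (show ⁅E, R⁆ ≤ QE from (Subgroup.commutator_comm _ _).trans_le hEQ) le_rfl).trans ?_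
    rw [Subgroup.commutator_le]
    intro q hq w hw
    rw [Subgroup.mem_bot, commutatorElement_def, hQW q hq w hw, mul_inv_cancel]
  · rw [← le_bot_iff]
    refine (Subgroup.commutator_mono (show ⁅R, WE⁆ ≤ ZE from Subgroup.commutator_le.2 fun r hr w hw =>
      (hUW.ge hw).2 r hr) le_rfl).trans ?_
    rw [Subgroup.commutator_le]
    intro z hz e he
    rw [Subgroup.mem_bot, commutatorElement_eq_one_iff_mul_comm]
    exact (Subgroup.mem_centralizer_iff.1 hz.2 e he).symm

theorem block_main (hG : Subgroup.centralizer (Cfsg.pCore p G : Set G) ≤ Cfsg.pCore p G) :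
    Cfsg.pResidualOf p (E ⊔ Cfsg.pCore p G) = E ∧
      ⁅WE, E⁆ ≤ Cfsg.omegaOneCenter p (Cfsg.pCore p G) ∧
      ⁅⁅WE, E⁆, Cfsg.thompsonSubgroupOf p (T : Subgroup G)⁆ ≠ ⊥ := by
  set R := Cfsg.pCore p G with hRdef
  haveI hRn : R.Normal := Subgroup.sSup_normal _ fun _ h => h.1
  have hR : IsPGroup p R := PReduced.isPGroup_pCore p G
  have hN : ∀ X : Subgroup G, X ≤ Subgroup.normalizer (R : Set G) := fun X => by
    rw [Subgroup.normalizer_eq_top]; exact le_top
  have hRE := le_normalizer_block hE hR (hN _) (hN _)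
  have hWR : ⁅WE, E⁆ ≤ Subgroup.centralizer (R : Set G) := commutator_WE_le_centralizer hE hR (hN _) hRE
  have hexp : ∀ w ∈ ⁅WE, E⁆, w ^ p = 1 := fun w hw =>
    pow_eq_one_of_mem_omegaOneCenter (CoprimeAction.commutator_le_of_normalizer (block_normalizes_W hE) hw)
  refine ⟨?_, fun w hw => Subgroup.subset_closure ⟨⟨hG (hWR hw), hWR hw⟩, hexp w hw⟩, fun hJ => ?_⟩
  · refine le_antisymm ?_ ?_
    · show (Cfsg.pResidual p ↥(E ⊔ R)).map (E ⊔ R).subtype ≤ E
      rw [Cfsg.pResidual, MonoidHom.map_closure, Subgroup.closure_le]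
      rintro _ ⟨⟨g, hg⟩, hgo, rfl⟩
      show g ∈ E
      have hgo' : (orderOf g).Coprime p := by
        have := hgo
        simp only [Set.mem_setOf_eq] at this
        rwa [← Subgroup.orderOf_coe] at this
      have hnE : E ⊔ R ≤ Subgroup.normalizer (E : Set G) := sup_le Subgroup.le_normalizer hRE
      haveI : (E.subgroupOf (E ⊔ R)).Normal := Subgroup.normal_subgroupOf_of_le_normalizer hnE
      set φ := QuotientGroup.mk' (E.subgroupOf (E ⊔ R))
      obtain ⟨e, he, r, hr, rfl⟩ := Subgroup.mem_sup_of_normal_right.1 hg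
      have h1 : φ ⟨e * r, hg⟩ = φ ⟨r, Subgroup.mem_sup_right hr⟩ := by
        rw [show (⟨e * r, hg⟩ : ↥(E ⊔ R)) = ⟨e, Subgroup.mem_sup_left he⟩ * ⟨r, Subgroup.mem_sup_right hr⟩ from rfl,
          map_mul, show φ ⟨e, Subgroup.mem_sup_left he⟩ = 1 from (QuotientGroup.eq_one_iff _).2 he, one_mul]
      obtain ⟨k, hk⟩ := hR ⟨r, hr⟩
      have h2 : orderOf (φ ⟨e * r, hg⟩) ∣ p ^ k := by
        rw [h1]
        refine orderOf_dvd_of_pow_eq_one ?_
        rw [← map_pow, show (⟨r, Subgroup.mem_sup_right hr⟩ : ↥(E ⊔ R)) ^ p ^ k = 1 from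
          Subtype.ext (congrArg Subtype.val hk :), map_one]
      have h3 : orderOf (φ ⟨e * r, hg⟩) ∣ orderOf (e * r) := by
        rw [← Subgroup.orderOf_mk (e * r) hg]; exact orderOf_map_dvd φ _
      exact (QuotientGroup.eq_one_iff (⟨e * r, hg⟩ : ↥(E ⊔ R))).1 (orderOf_eq_one_iff.1
        (Nat.eq_one_of_dvd_coprimes (hgo'.pow_right k) h3 h2))
    · conv_lhs => rw [← hE.1]
      show (Cfsg.pResidual p ↥E).map E.subtype ≤ (Cfsg.pResidual p ↥(E ⊔ R)).map (E ⊔ R).subtype
      rw [show E.subtype = (E ⊔ R).subtype.comp (Subgroup.inclusion le_sup_left) from rfl, ← Subgroup.map_map]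
      exact Subgroup.map_mono (Transfer.map_pResidual_le _)
  · -- `J(T)` centralizing `[W, E]` is absurd
    set V := ⁅WE, E⁆ with hV
    have hVT : V ≤ (T : Subgroup G) := fun v hv => PReduced.pCore_le_sylow T (hG (hWR hv))
    rw [ZJ.thompsonSubgroupOf_eq, Subgroup.commutator_comm, Subgroup.commutator_eq_bot_iff_le_centralizer] at hJ
    have hVW : V ≤ ZJ.W p true (T : Subgroup G) := by
      obtain ⟨A, hA⟩ := ZJ.maxGood_nonempty p true (T : Subgroup G)
      intro v hv
      refine Subgroup.subset_closure ⟨⟨ZJ.maxGood_le_J hA (ZJ.mem_of_maxGood hA (hVT hv) (fun a ha =>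
        (Subgroup.mem_centralizer_iff.1 (hJ (ZJ.maxGood_le_J hA ha)) v hv).symm) fun _ => hexp v hv), ?_⟩,
        fun _ => hexp v hv⟩
      exact Subgroup.mem_centralizer_iff.2 fun a ha => (Subgroup.mem_centralizer_iff.1 (hJ ha) v hv).symm
    have hBV : BT ≤ Subgroup.centralizer (V : Set G) := by
      rw [baumannSubgroupOf_eq]
      exact inf_le_right.trans (Subgroup.centralizer_le hVW)
    have hEV : E ≤ Subgroup.normalizer (V : Set G) := fun e he => mem_normalizer_of_conj fun x hx => by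
      have hle : V ≤ V.comap (MulAut.conj e).toMonoidHom := Subgroup.commutator_le.2 fun w hw f hf => by
        show MulAut.conj e ⁅w, f⁆ ∈ V
        rw [map_commutatorElement]
        exact Subgroup.commutator_mem_commutator (conj_mem (block_normalizes_W hE he) hw)
          (conj_mem (Subgroup.le_normalizer he) hf)
      exact hle hx
    have hEc : E ≤ Subgroup.centralizer (V : Set G) := by
      conv_lhs => rw [← hE.2.1]
      refine Subgroup.commutator_le.2 fun e he b hb => ?_
      rw [commutatorElement_def]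
      exact mul_mem (conj_mem (PReduced.normalizer_le_normalizer_centralizer V (hEV he)) (hBV hb))
        (inv_mem (hBV hb))
    have h0 : V ≤ ⊥ := commutator_le_of_step hE.1
      ((PReduced.isPGroup_pCoreOf E).to_le ((omegaOneCenter_le _).trans inf_le_left))
      (block_normalizes_W hE) (fun e _ => mem_normalizer_of_conj fun x hx => by
        rw [Subgroup.mem_bot.1 hx]; simp) le_rfl
      (le_of_eq (by rw [Subgroup.commutator_comm, Subgroup.commutator_eq_bot_iff_le_centralizer]; exact hEc))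
    refine (block_irreducible hE).1 fun w hw => ⟨hw, Subgroup.mem_centralizer_iff.2 fun e he => ?_⟩
    have := h0 (Subgroup.commutator_mem_commutator hw he)
    exact ((commutatorElement_eq_one_iff_mul_comm).1 (Subgroup.mem_bot.1 this)).symm

end Block

end CfsgLib.BBlock
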